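import Cfsg.Agent.H868.JM.SevA

/-!
# The Frobenius subgroups of order 21 of `J4`

For an element `f` of order 7 and an element `y` of order 3 with `y f y⁻¹ = f ^ 2` the pair `(f, y)` is
conjugate to `(f1, y0)`, `(f1⁻¹, y0)`, `(f2, y0)` or `(f2⁻¹, y0)`; the centralizers of `⟨f1, y0⟩` and
`⟨f2, y0⟩`.
-/

set_option autoImplicit false

open Cfsg

namespace Cfsg.Agent.H868.JM

open Cfsg.Agent.Lib Cfsg.Agent.Lib.F2MatGroup
open Cfsg.Agent.J4.Rep112 Cfsg.Agent.J4.Pres Cfsg.Agent.J4.LowerData Cfsg.Agent.J4.Lower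
open Cfsg.Agent.J4.M24Hom Cfsg.Agent.J4.Packed Cfsg.Agent.J4.Nodes Cfsg.Agent.J4.Beta
open Cfsg.Agent.J4.Classes Cfsg.Agent.H858 Cfsg.Agent.H858.VK Cfsg.Agent.H858.Data
open Cfsg.Agent.H858.Elem Cfsg.Agent.H858.Loc7 Cfsg.Agent.H858.Norm57 Cfsg.Agent.H858.Pent

/-- the group `Spor.J4` -/
local notation "𝒢" => Cfsg.Spor.J4

/-! ### The abstract argument -/

section abs

variable {G : Type*} [Group G] {s e₀ c y : G} {I : Subgroup G}

theorem pow_conj (he : e₀ * s = s * s * e₀) (k : ℕ) : e₀ * s ^ k = s ^ (2 * k) * e₀ := by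
  induction k with
  | zero => simp
  | succ k ih =>
    rw [pow_succ, ← mul_assoc, ih, mul_assoc, he, show 2 * (k + 1) = 2 * k + 1 + 1 by ring,
      pow_succ, pow_succ]
    simp only [mul_assoc]

theorem abs_class (hs7 : s ^ 7 = 1)
    (hC : ∀ x : G, x * s = s * x → ∃ k : ℕ, ∃ b ∈ I, x = s ^ k * b)
    (hIs : ∀ b ∈ I, b * s = s * b) (hIe : ∀ b ∈ I, b * e₀ = e₀ * b)
    (he : e₀ * s = s * s * e₀) (he3 : e₀ ^ 3 = 1)
    (h3 : ∀ b ∈ I, b ^ 3 = 1 → b ≠ 1 → ∃ g ∈ I, g * b * g⁻¹ = c)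
    (hy : y * s * y⁻¹ = s ^ 2) (hy3 : y ^ 3 = 1) :
    ∃ g, g * s * g⁻¹ = s ∧ (g * y * g⁻¹ = e₀ ∨ g * y * g⁻¹ = e₀ * c) := by
  have e1 : e₀⁻¹ * s ^ 2 = s * e₀⁻¹ := by
    rw [inv_mul_eq_iff_eq_mul, ← mul_assoc, he, pow_two, mul_assoc, mul_inv_cancel, mul_one]
  have e2 : y * s = s ^ 2 * y := by rw [← hy]; group
  obtain ⟨k, b, hb, hx⟩ := hC (e₀⁻¹ * y) (by rw [mul_assoc, e2, ← mul_assoc, e1, mul_assoc])
  have hyb : y = e₀ * (s ^ k * b) := by rw [← hx]; group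
  have hbs : ∀ n : ℕ, b * s ^ n = s ^ n * b := fun n => (Commute.pow_right (hIs b hb) n).eq
  have h7 : ∀ n m : ℕ, n % 7 = m % 7 → s ^ n = s ^ m := by
    intro n m h
    rw [← Nat.div_add_mod n 7, ← Nat.div_add_mod m 7, h, pow_add, pow_add, pow_mul, pow_mul, hs7,
      one_pow, one_pow]
  have h1 : s ^ (2 * k) * y * (s ^ (2 * k))⁻¹ = e₀ * b := by
    rw [mul_inv_eq_iff_eq_mul, hyb, mul_assoc e₀ b, hbs]
    rw [show s ^ (2 * k) * (e₀ * (s ^ k * b)) = s ^ (2 * k) * (e₀ * s ^ k) * b by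
      simp only [mul_assoc], pow_conj he, ← mul_assoc e₀, pow_conj he, ← mul_assoc, ← pow_add]
    rw [show 2 * k + 2 * k = 2 * (2 * k) by ring]
  have hb3 : b ^ 3 = 1 := by
    have h4 : (s ^ (2 * k) * y * (s ^ (2 * k))⁻¹) ^ 3 = 1 := by
      rw [conj_pow, hy3, mul_one, mul_inv_cancel]
    rw [h1, (show Commute e₀ b from (hIe b hb).symm).mul_pow, he3, one_mul] at h4
    exact h4
  by_cases hb1 : b = 1
  · refine ⟨s ^ (2 * k), ?_, Or.inl (by rw [h1, hb1, mul_one])⟩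
    rw [← pow_succ, pow_succ', mul_assoc, mul_inv_cancel, mul_one]
  · obtain ⟨g, hg, hgb⟩ := h3 b hb hb3 hb1
    refine ⟨g * s ^ (2 * k), ?_, Or.inr ?_⟩
    · have h5 : g * s ^ (2 * k) * s * (g * s ^ (2 * k))⁻¹ = g * (s ^ (2 * k) * s *
        (s ^ (2 * k))⁻¹) * g⁻¹ := by group
      rw [h5, ← pow_succ, pow_succ', mul_assoc s, mul_inv_cancel, mul_one, hIs g hg, mul_assoc,
        mul_inv_cancel, mul_one]
    · have h5 : g * s ^ (2 * k) * y * (g * s ^ (2 * k))⁻¹ = g * (s ^ (2 * k) * y *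
        (s ^ (2 * k))⁻¹) * g⁻¹ := by group
      rw [h5, h1, ← hgb, ← mul_assoc, hIe g hg]
      simp only [mul_assoc]

end abs

/-! ### The element `e c` -/

theorem c_pow : c ^ 3 = 1 := by
  have h : kw (lc ++ (lc ++ lc)) = kw [] := kw_congr (by decide +kernel)
  have h2 : phi (kw (lc ++ (lc ++ lc))) = 1 := by rw [h]; exact map_one _
  rw [kw_append, kw_append, map_mul, map_mul] at h2
  rw [pow_succ, pow_succ, pow_one, mul_assoc]
  exact h2

theorem c_mul_e : c * e = e * c := by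
  have h : kw (lc ++ le) = kw (le ++ lc) := kw_congr (by decide +kernel)
  have h2 := congrArg phi h
  rw [kw_append, kw_append, map_mul, map_mul] at h2
  exact h2

theorem c_mul_s : c * s = s * c := by
  have h : kw (lc ++ ls) = kw (ls ++ lc) := kw_congr (by decide +kernel)
  have h2 := congrArg phi h
  rw [kw_append, kw_append, map_mul, map_mul] at h2
  exact h2

theorem c_mul_t : c * t = t * c := (kw_comm lc).symm

theorem e_mul_t : e * t = t * e := (kw_comm le).symm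

/-- the element of order 3 centralizing the symmetric group of degree 5 -/
noncomputable def e0 : 𝒢 := e * c

theorem e0_kw : e0 = phi (kw (le ++ lc)) := by
  rw [kw_append, map_mul]; rfl

theorem e0_mul_t : e0 * t = t * e0 := by
  unfold e0
  rw [mul_assoc, c_mul_t, ← mul_assoc, e_mul_t, mul_assoc]

theorem e0_mul_f : e0 * f = f * e0 := by
  have h1 : e0 * V 1217 = V 1217 * e0 := by
    have h := conj_kw (l := le ++ lc) (M := mat (ex (le ++ lc))) rfl 1217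
    rw [show lin (mat (ex (le ++ lc))) 1217 = 1217 by decide +kernel, ← e0_kw] at h
    exact mul_inv_eq_iff_eq_mul.1 h
  have h2 : e0 * b = b * e0 := by
    have h : kw ((le ++ lc) ++ lb) = kw (lb ++ (le ++ lc)) := kw_congr (by decide +kernel)
    have h2 := congrArg phi h
    rw [kw_append, kw_append lb, map_mul, map_mul, ← e0_kw] at h2
    exact h2
  unfold f
  rw [← mul_assoc, ← mul_assoc, e0_mul_t, mul_assoc t, h1, mul_assoc, mul_assoc, h2]
  simp only [mul_assoc]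

theorem e0_mul_s : e0 * s = s * s * e0 := by
  unfold e0
  rw [mul_assoc, c_mul_s, ← mul_assoc, Loc7.e_mul_s, mul_assoc, mul_assoc]

theorem e0_pow : e0 ^ 3 = 1 := by
  unfold e0
  rw [(show Commute e c from c_mul_e.symm).mul_pow, Loc7.e_pow, c_pow, one_mul]

theorem e_eq' : e = e0 * c⁻¹ := by unfold e0; group

/-! ### The symmetric group `I0` -/

theorem cent_s {x : 𝒢} (hx : x * s = s * x) : ∃ k : ℕ, ∃ b ∈ I0, x = s ^ k * b := by
  have hx1 : x ∈ Subgroup.centralizer (S7 : Set 𝒢) := by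
    rw [S7_eq', NormC.centralizer_zpowers, Subgroup.mem_centralizer_iff]
    rintro _ rfl
    exact hx.symm
  obtain ⟨_, _, h3, _, h5⟩ := directProduct
  rw [← h5] at hx1
  have hn : I0 ≤ Subgroup.normalizer (S7 : Set 𝒢) :=
    I0_le_C.trans (NormC.centralizer_le_normalizer S7)
  obtain ⟨a, ha, b, hb, h6⟩ := Abs.exists_mul_of_mem_sup hn hx1
  rw [S7_eq'] at ha
  obtain ⟨k, rfl⟩ := (Submonoid.mem_powers_iff _ _).1 (mem_powers_iff_mem_zpowers.2 ha)
  exact ⟨k, b, hb, h6⟩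

theorem I0_s {x : 𝒢} (hx : x ∈ I0) : x * s = s * x := by
  have h := I0_le_C hx
  rw [S7_eq', NormC.centralizer_zpowers, Subgroup.mem_centralizer_iff] at h
  exact (h s rfl).symm

theorem I0_e0 {x : 𝒢} (hx : x ∈ I0) : x * e0 = e0 * x := by
  have h : I0 ≤ Subgroup.centralizer {e0} := by
    unfold I0
    rw [Subgroup.closure_le]
    rintro _ (rfl | rfl)
    · rw [SetLike.mem_coe, Subgroup.mem_centralizer_iff]
      rintro _ rfl
      exact e0_mul_f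
    · rw [SetLike.mem_coe, Subgroup.mem_centralizer_iff]
      rintro _ rfl
      exact e0_mul_t
  exact ((Subgroup.mem_centralizer_iff.1 (h hx)) e0 rfl).symm

theorem s_mod {n m : ℕ} (h : n % 7 = m % 7) : s ^ n = s ^ m := by
  rw [← Nat.div_add_mod n 7, ← Nat.div_add_mod m 7, h, pow_add, pow_add, pow_mul, pow_mul,
    Loc7.s_pow, one_pow, one_pow]

theorem s_pow_mem {k : ℕ} (h : s ^ k ∈ I0) : s ^ k = 1 := by
  have h1 : s ^ k ∈ S7 ⊓ I0 := Subgroup.mem_inf.2 ⟨by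
    rw [S7_eq']; exact Subgroup.pow_mem _ (Subgroup.mem_zpowers s) k, h⟩
  rw [S7_inf] at h1
  exact Subgroup.mem_bot.1 h1

theorem pow_card_I0 {x : 𝒢} (hx : x ∈ I0) : x ^ 120 = 1 := by
  have h : (⟨x, hx⟩ : I0) ^ 120 = 1 := by
    rw [← card_I0]; exact pow_card_eq_one'
  exact congrArg Subtype.val h

theorem mem_I0_of {x : 𝒢} (hx : x * s = s * x) (h : x ^ 120 = 1) : x ∈ I0 := by
  obtain ⟨k, b, hb, rfl⟩ := cent_s hx
  have h1 : Commute (s ^ k) b := (Commute.pow_left (I0_s hb).symm k)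
  rw [h1.mul_pow, pow_card_I0 hb, mul_one, ← pow_mul] at h
  have h2 : s ^ k = 1 := by rw [← h]; exact s_mod (by omega)
  rw [h2, one_mul]
  exact hb

theorem c_mem : c ∈ I0 := mem_I0_of c_mul_s (by
  rw [show 120 = 3 * 40 by norm_num, pow_mul, c_pow, one_pow])

theorem c_inv_mem : c⁻¹ ∈ I0 := Subgroup.inv_mem _ c_mem

/-- the permutation of `c` -/
abbrev pc : Equiv.Perm (Fin 5) := pkw lc

theorem pI_c : pI ⟨c, c_mem⟩ = pc := p5_eq (act_kw lc)
theorem pI_t : pI ⟨t, t_mem⟩ = Equiv.swap 0 1 := p5_eq act_t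

theorem pI_injective : Function.Injective pI := by
  have h : Function.Bijective pI := by
    rw [Nat.bijective_iff_surjective_and_card]
    refine ⟨pI_surjective, ?_⟩
    rw [card_I0, Nat.card_eq_fintype_card, Fintype.card_perm, Fintype.card_fin]
    rfl
  exact h.1

theorem c_ne : c ≠ 1 := by
  intro h
  have h1 : pc = 1 := by
    rw [← pI_c, ← map_one pI]
    congr 1
    exact Subtype.ext h
  revert h1
  decide +kernel

theorem cycleType_three {σ : Equiv.Perm (Fin 5)} (h : orderOf σ = 3) : σ.cycleType = {3} := by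
  obtain ⟨n, hn⟩ := Equiv.Perm.cycleType_prime_order (σ := σ) (by rw [h]; norm_num)
  have h1 := Equiv.Perm.sum_cycleType σ
  have h2 : σ.support.card ≤ 5 := by
    have := Finset.card_le_univ σ.support
    rwa [Fintype.card_fin] at this
  rw [hn, h, Multiset.sum_replicate, smul_eq_mul] at h1
  have h3 : n = 0 := by omega
  rw [hn, h, h3]
  rfl

theorem orderOf_three {G : Type*} [Group G] {x : G} (h : x ^ 3 = 1) (h1 : x ≠ 1) :
    orderOf x = 3 := by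
  have : Fact (Nat.Prime 3) := ⟨by norm_num⟩
  exact orderOf_eq_prime h h1

/-- elements of order 3 of the symmetric group of degree 5 -/
theorem exists_conj_three {x y : 𝒢} (hx : x ∈ I0) (hy : y ∈ I0) (hx3 : x ^ 3 = 1) (hx1 : x ≠ 1)
    (hy3 : y ^ 3 = 1) (hy1 : y ≠ 1) : ∃ g ∈ I0, g * x * g⁻¹ = y := by
  have key : ∀ z : 𝒢, ∀ hz : z ∈ I0, z ^ 3 = 1 → z ≠ 1 → (pI ⟨z, hz⟩).cycleType = {3} := by
    intro z hz h3 h1
    apply cycleType_three
    rw [orderOf_injective pI pI_injective]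
    apply orderOf_three
    · exact Subtype.ext h3
    · intro h
      exact h1 (congrArg Subtype.val h)
  have h1 : IsConj (pI ⟨x, hx⟩) (pI ⟨y, hy⟩) := by
    rw [Equiv.Perm.isConj_iff_cycleType_eq, key x hx hx3 hx1, key y hy hy3 hy1]
  obtain ⟨τ, hτ⟩ := isConj_iff.1 h1
  obtain ⟨g, rfl⟩ := pI_surjective τ
  rw [← map_mul, ← map_inv, ← map_mul] at hτ
  exact ⟨g, g.2, congrArg Subtype.val (pI_injective hτ)⟩

/-! ### The classification -/

theorem two_types {y : 𝒢} (hy : y * s * y⁻¹ = s ^ 2) (hy3 : y ^ 3 = 1) :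
    ∃ g, g * s * g⁻¹ = s ∧ (g * y * g⁻¹ = e0 ∨ g * y * g⁻¹ = e) := by
  have h := abs_class (G := 𝒢) (s := s) (e₀ := e0) (c := c⁻¹) (y := y) (I := I0) Loc7.s_pow
    (fun x hx => cent_s hx) (fun b hb => I0_s hb) (fun b hb => I0_e0 hb) e0_mul_s e0_pow
    (fun b hb h3 h1 => exists_conj_three hb c_inv_mem h3 h1 (by rw [inv_pow, c_pow, inv_one])
      (by rw [ne_eq, inv_eq_one]; exact c_ne)) hy hy3
  rwa [← e_eq'] at h

theorem exists_conj_S7 {x : 𝒢} (hx : orderOf x = 7) : ∃ g : 𝒢, g * x * g⁻¹ ∈ S7 := by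
  have h7 : Fact (Nat.Prime 7) := ⟨by norm_num⟩
  have h1 : IsPGroup 7 (Subgroup.zpowers x) := NormC.isPGroup_of_card (by
    rw [Nat.card_zpowers, hx])
  obtain ⟨Q, hQ⟩ := h1.exists_le_sylow
  obtain ⟨g, hg⟩ := MulAction.exists_smul_eq 𝒢 Q (isPGroup_S7.toSylow not_dvd_S7)
  refine ⟨g, ?_⟩
  have h2 : MulAut.conj g x ∈ (g • Q : Sylow 7 𝒢) := by
    rw [Sylow.smul_def]
    exact Subgroup.smul_mem_pointwise_smul x (MulAut.conj g) (Q : Subgroup 𝒢)
      (hQ (Subgroup.mem_zpowers x))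
  rw [hg] at h2
  exact h2

theorem e_pow_s (i k : ℕ) : e ^ i * s ^ k * (e ^ i)⁻¹ = s ^ (2 ^ i * k) := by
  induction i with
  | zero => simp
  | succ i ih =>
    have h : e ^ (i + 1) * s ^ k * (e ^ (i + 1))⁻¹ = e * (e ^ i * s ^ k * (e ^ i)⁻¹) * e⁻¹ := by
      rw [pow_succ']; group
    rw [h, ih, mul_inv_eq_iff_eq_mul, pow_conj Loc7.e_mul_s, pow_succ]
    congr 2
    ring

theorem seven_std {x : 𝒢} (hx : orderOf x = 7) : ∃ g : 𝒢, g * x * g⁻¹ = s ∨ g * x * g⁻¹ = s⁻¹ := by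
  obtain ⟨g, hg⟩ := exists_conj_S7 hx
  rw [S7_eq'] at hg
  obtain ⟨k, hk⟩ := (Submonoid.mem_powers_iff _ _).1 (mem_powers_iff_mem_zpowers.2 hg)
  have hk' : g * x * g⁻¹ = s ^ (k % 7) := by rw [← hk]; exact s_mod (by omega)
  have hne : k % 7 ≠ 0 := by
    intro h0
    rw [h0, pow_zero] at hk'
    have h1 : x = 1 := by
      have h2 : x = g⁻¹ * (g * x * g⁻¹) * g := by group
      rw [h2, hk']; group
    rw [h1, orderOf_one] at hx
    omega
  have hinv : s⁻¹ = s ^ 6 := by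
    rw [inv_eq_iff_mul_eq_one, ← pow_succ']; exact Loc7.s_pow
  have key : ∀ i : ℕ, e ^ i * g * x * (e ^ i * g)⁻¹ = s ^ (2 ^ i * (k % 7)) := by
    intro i
    rw [← e_pow_s, ← hk']; group
  have hlt : k % 7 < 7 := Nat.mod_lt _ (by norm_num)
  generalize k % 7 = m at *
  interval_cases m
  · exact absurd rfl hne
  · exact ⟨e ^ 0 * g, Or.inl (by rw [key 0]; simp)⟩
  · exact ⟨e ^ 2 * g, Or.inl (by rw [key 2]; exact (s_mod (by norm_num)).trans (pow_one s))⟩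
  · exact ⟨e ^ 1 * g, Or.inr (by rw [key 1, hinv]; exact s_mod (by norm_num))⟩
  · exact ⟨e ^ 1 * g, Or.inl (by rw [key 1]; exact (s_mod (by norm_num)).trans (pow_one s))⟩
  · exact ⟨e ^ 2 * g, Or.inr (by rw [key 2, hinv]; exact s_mod (by norm_num))⟩
  · exact ⟨e ^ 0 * g, Or.inr (by rw [key 0, hinv]; exact s_mod (by norm_num))⟩

/-- **the classes of the Frobenius groups of order 21** -/
theorem seven_three {x y : 𝒢} (hx : orderOf x = 7) (hy3 : y ^ 3 = 1) (hxy : y * x * y⁻¹ = x ^ 2) :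
    ∃ g : 𝒢, g * y * g⁻¹ = y0 ∧ (g * x * g⁻¹ = f1 ∨ g * x * g⁻¹ = f1⁻¹ ∨ g * x * g⁻¹ = f2 ∨
      g * x * g⁻¹ = f2⁻¹) := by
  obtain ⟨g, hg⟩ := seven_std hx
  have h1 : (g * y * g⁻¹) * s * (g * y * g⁻¹)⁻¹ = s ^ 2 := by
    have h2 : (g * y * g⁻¹) * (g * x * g⁻¹) * (g * y * g⁻¹)⁻¹ = (g * x * g⁻¹) ^ 2 := by
      rw [conj_pow, ← hxy]; group
    rcases hg with h | h
    · rwa [h] at h2
    · rw [h] at h2
      have h3 := congrArg (fun z => z⁻¹) h2
      simp only [mul_inv_rev, inv_inv, inv_pow] at h3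
      simpa [mul_assoc] using h3
  have h3 : (g * y * g⁻¹) ^ 3 = 1 := by rw [conj_pow, hy3, mul_one, mul_inv_cancel]
  obtain ⟨k, hk, hk2⟩ := two_types h1 h3
  have hk3 : k * s⁻¹ * k⁻¹ = s⁻¹ := by
    have := congrArg (fun z => z⁻¹) hk
    simpa [mul_assoc] using this
  have hxx : k * (g * x * g⁻¹) * k⁻¹ = s ∨ k * (g * x * g⁻¹) * k⁻¹ = s⁻¹ := by
    rcases hg with h | h
    · left; rw [h, hk]
    · right; rw [h, hk3]
  rcases hk2 with h | h
  · refine ⟨g1 * k * g, ?_, ?_⟩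
    · have e1 : g1 * k * g * y * (g1 * k * g)⁻¹ = g1 * (k * (g * y * g⁻¹) * k⁻¹) * g1⁻¹ := by group
      rw [e1, h]; rfl
    · have e1 : g1 * k * g * x * (g1 * k * g)⁻¹ = g1 * (k * (g * x * g⁻¹) * k⁻¹) * g1⁻¹ := by group
      rw [e1]
      rcases hxx with h | h
      · left; rw [h]; rfl
      · right; left; rw [h]; unfold f1; group
  · refine ⟨g2 * k * g, ?_, ?_⟩
    · have e1 : g2 * k * g * y * (g2 * k * g)⁻¹ = g2 * (k * (g * y * g⁻¹) * k⁻¹) * g2⁻¹ := by group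
      rw [e1, h]; exact g2_e
    · have e1 : g2 * k * g * x * (g2 * k * g)⁻¹ = g2 * (k * (g * x * g⁻¹) * k⁻¹) * g2⁻¹ := by group
      rw [e1]
      rcases hxx with h | h
      · right; right; left; rw [h]; rfl
      · right; right; right; rw [h]; unfold f2; group

/-! ### Relations -/

theorem y0_pow : y0 ^ 3 = 1 := by
  rw [← g2_e, conj_pow, Loc7.e_pow, mul_one, mul_inv_cancel]

theorem y0_f1 : y0 * f1 * y0⁻¹ = f1 ^ 2 := by
  unfold f1
  rw [conj_pow]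
  have h : e0 * s * e0⁻¹ = s ^ 2 := by rw [e0_mul_s, pow_two, mul_inv_cancel_right]
  have h2 : y0 = g1 * e0 * g1⁻¹ := rfl
  rw [h2, ← h]; group

theorem y0_f2 : y0 * f2 * y0⁻¹ = f2 ^ 2 := by
  unfold f2
  rw [conj_pow]
  have h : e * s * e⁻¹ = s ^ 2 := by rw [Loc7.e_mul_s, pow_two, mul_inv_cancel_right]
  rw [← g2_e, ← h]; group

theorem f1_pow : f1 ^ 7 = 1 := by unfold f1; rw [conj_pow, Loc7.s_pow, mul_one, mul_inv_cancel]
theorem f2_pow : f2 ^ 7 = 1 := by unfold f2; rw [conj_pow, Loc7.s_pow, mul_one, mul_inv_cancel]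

theorem orderOf_s : orderOf s = 7 := by
  have : Fact (Nat.Prime 7) := ⟨by norm_num⟩
  exact orderOf_eq_prime Loc7.s_pow s_ne

theorem conj_ne_one {g x : 𝒢} (hx : x ≠ 1) : g * x * g⁻¹ ≠ 1 := by
  intro h
  apply hx
  have h2 : x = g⁻¹ * (g * x * g⁻¹) * g := by group
  rw [h2, h]; group

theorem f1_ne : f1 ≠ 1 := conj_ne_one s_ne
theorem f2_ne : f2 ≠ 1 := conj_ne_one s_ne
theorem orderOf_f1 : orderOf f1 = 7 := by
  have : Fact (Nat.Prime 7) := ⟨by norm_num⟩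
  exact orderOf_eq_prime f1_pow f1_ne
theorem orderOf_f2 : orderOf f2 = 7 := by
  have : Fact (Nat.Prime 7) := ⟨by norm_num⟩
  exact orderOf_eq_prime f2_pow f2_ne

/-! ### Centralizers -/

theorem cent_s_e0 {x : 𝒢} (h1 : x * s = s * x) (h2 : x * e0 = e0 * x) : x ∈ I0 := by
  obtain ⟨k, b, hb, rfl⟩ := cent_s h1
  have h3 : s ^ k * b * e0 = s ^ (2 * k) * b * e0 := by
    rw [h2, ← mul_assoc, pow_conj e0_mul_s, mul_assoc, ← I0_e0 hb, mul_assoc]
  have h4 : s ^ k = s ^ (2 * k) := mul_right_cancel (mul_right_cancel h3)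
  have h5 : s ^ k = 1 := by
    rw [two_mul, pow_add] at h4
    exact (mul_eq_left.1 h4.symm)
  rw [h5, one_mul]
  exact hb

/-- powers of `c t` -/
theorem perm_cent : ∀ σ : Equiv.Perm (Fin 5), σ * pc = pc * σ →
    ∃ k : Fin 6, σ = (pc * Equiv.swap 0 1) ^ (k : ℕ) := by decide +kernel

theorem ct_mem : c * t ∈ I0 := Subgroup.mul_mem _ c_mem t_mem

theorem cent_c {x : 𝒢} (hx : x ∈ I0) (h : x * c = c * x) : x ∈ Subgroup.zpowers (c * t) := by
  have h1 : pI ⟨x, hx⟩ * pc = pc * pI ⟨x, hx⟩ := by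
    rw [← pI_c, ← map_mul, ← map_mul]
    congr 1
    exact Subtype.ext h
  obtain ⟨k, hk⟩ := perm_cent _ h1
  rw [← pI_c, ← pI_t, ← map_mul, ← map_pow] at hk
  have h2 := congrArg Subtype.val (pI_injective hk)
  have h3 : x = (c * t) ^ (k : ℕ) := h2
  rw [h3]
  exact Subgroup.pow_mem _ (Subgroup.mem_zpowers _) _

theorem cent_s_e {x : 𝒢} (h1 : x * s = s * x) (h2 : x * e = e * x) :
    x ∈ Subgroup.zpowers (c * t) := by
  obtain ⟨k, b, hb, rfl⟩ := cent_s h1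
  have h3 : s ^ k * (b * e) = s ^ k * (s ^ k * (e * b)) := by
    have h4 : e * s ^ k = s ^ (2 * k) * e := pow_conj Loc7.e_mul_s k
    rw [← mul_assoc, h2, ← mul_assoc, h4, two_mul, pow_add]
    simp only [mul_assoc]
  have h5 : s ^ k = b * e * b⁻¹ * e⁻¹ := by
    have h6 := mul_left_cancel h3
    rw [h6]; group
  have h7 : s ^ k = 1 := by
    apply s_pow_mem
    rw [h5]
    have h8 : b * e * b⁻¹ * e⁻¹ = b * c⁻¹ * b⁻¹ * c := by
      have h9 : b * e0 = e0 * b := I0_e0 hb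
      rw [e_eq']
      calc b * (e0 * c⁻¹) * b⁻¹ * (e0 * c⁻¹)⁻¹ = (b * e0) * c⁻¹ * b⁻¹ * c * e0⁻¹ := by group
        _ = e0 * (b * c⁻¹ * b⁻¹ * c) * e0⁻¹ := by rw [h9]; group
        _ = b * c⁻¹ * b⁻¹ * c := by
          rw [← I0_e0 (Subgroup.mul_mem _ (Subgroup.mul_mem _ (Subgroup.mul_mem _ hb c_inv_mem)
            (Subgroup.inv_mem _ hb)) c_mem), mul_inv_cancel_right]
    rw [h8]
    exact Subgroup.mul_mem _ (Subgroup.mul_mem _ (Subgroup.mul_mem _ hb c_inv_mem)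
      (Subgroup.inv_mem _ hb)) c_mem
  rw [h7, one_mul] at h2 ⊢
  apply cent_c hb
  have h9 : b * e0 = e0 * b := I0_e0 hb
  have hc : c = e⁻¹ * e0 := by unfold e0; group
  rw [hc, ← mul_assoc, mul_assoc e⁻¹, ← h9, ← mul_assoc]
  congr 1
  rw [mul_inv_eq_iff_eq_mul, mul_assoc, h2, ← mul_assoc, inv_mul_cancel, one_mul]

theorem conj_comm_iff {G : Type*} [Group G] {g a x : G} :
    x * (g * a * g⁻¹) = (g * a * g⁻¹) * x ↔ (g⁻¹ * x * g) * a = a * (g⁻¹ * x * g) := by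
  constructor
  · intro h
    have h2 := congrArg (fun z => g⁻¹ * z * g) h
    simpa [mul_assoc] using h2
  · intro h
    have h2 := congrArg (fun z => g * z * g⁻¹) h
    simpa [mul_assoc] using h2

/-- the group of order 120 -/
noncomputable def I1 : Subgroup 𝒢 := Subgroup.closure {q1, t1}

theorem I1_eq : I1 = I0.map (MulAut.conj g1).toMonoidHom := by
  unfold I1 I0
  rw [MonoidHom.map_closure, Set.image_pair]
  rfl

theorem card_I1 : Nat.card I1 = 120 := by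
  rw [I1_eq, Subgroup.card_map_of_injective (MulAut.conj g1).injective, card_I0]

/-- **the centralizer of `⟨f1, y0⟩`** -/
theorem cent_1 {x : 𝒢} : x ∈ I1 ↔ x * f1 = f1 * x ∧ x * y0 = y0 * x := by
  rw [I1_eq]
  constructor
  · rintro ⟨z, hz, rfl⟩
    have e1 : g1⁻¹ * (g1 * z * g1⁻¹) * g1 = z := by group
    constructor
    · show g1 * z * g1⁻¹ * (g1 * s * g1⁻¹) = _
      apply conj_comm_iff.2
      rw [e1]; exact I0_s hz
    · show g1 * z * g1⁻¹ * (g1 * e0 * g1⁻¹) = _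
      apply conj_comm_iff.2
      rw [e1]; exact I0_e0 hz
  · rintro ⟨h1, h2⟩
    refine ⟨g1⁻¹ * x * g1, cent_s_e0 (conj_comm_iff.1 h1) (conj_comm_iff.1 h2), ?_⟩
    show g1 * (g1⁻¹ * x * g1) * g1⁻¹ = x
    group

/-- **the centralizer of `⟨f2, y0⟩`** -/
theorem cent_2 {x : 𝒢} : x ∈ Subgroup.zpowers c6 ↔ x * f2 = f2 * x ∧ x * y0 = y0 * x := by
  constructor
  · intro hx
    have h1 : c6 ∈ Subgroup.centralizer {f2, y0} := by
      rw [Subgroup.mem_centralizer_iff]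
      have e1 : g2⁻¹ * c6 * g2 = c * t := by unfold c6; group
      rintro _ (rfl | rfl)
      · symm
        apply conj_comm_iff.2
        rw [e1]; exact I0_s ct_mem
      · symm
        rw [← g2_e]
        apply conj_comm_iff.2
        rw [e1, mul_assoc, ← e_mul_t, ← mul_assoc, c_mul_e, mul_assoc]
    have h2 : Subgroup.zpowers c6 ≤ Subgroup.centralizer {f2, y0} := by
      rw [Subgroup.zpowers_le]; exact h1
    have h3 := Subgroup.mem_centralizer_iff.1 (h2 hx)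
    exact ⟨(h3 f2 (Or.inl rfl)).symm, (h3 y0 (Or.inr rfl)).symm⟩
  · rintro ⟨h1, h2⟩
    rw [← g2_e] at h2
    obtain ⟨k, hk⟩ := Subgroup.mem_zpowers_iff.1
      (cent_s_e (conj_comm_iff.1 h1) (conj_comm_iff.1 h2))
    rw [Subgroup.mem_zpowers_iff]
    refine ⟨k, ?_⟩
    unfold c6
    rw [conj_zpow, hk]
    group

theorem c6_pow : c6 ^ 6 = 1 := by
  unfold c6
  have h : (c * t) ^ 6 = 1 := by
    rw [(show Commute c t from c_mul_t).mul_pow, show 6 = 3 * 2 by norm_num, pow_mul, c_pow,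
      one_pow, mul_comm, pow_mul, pow_two t, t_sq, one_pow, one_mul]
  rw [conj_pow, h, mul_one, mul_inv_cancel]

theorem c6_pow_three : c6 ^ 3 = g2 * t * g2⁻¹ := by
  unfold c6
  have h : (c * t) ^ 3 = t := by
    rw [(show Commute c t from c_mul_t).mul_pow, c_pow, one_mul, pow_succ, pow_two, t_sq, one_mul]
  rw [conj_pow, h]

theorem c6_pow_four : c6 ^ 4 = g2 * c * g2⁻¹ := by
  unfold c6
  have h : (c * t) ^ 4 = c := by
    rw [(show Commute c t from c_mul_t).mul_pow, pow_succ c, c_pow, one_mul,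
      show 4 = 2 * 2 by norm_num, pow_mul, pow_two t, t_sq, one_pow, mul_one]
  rw [conj_pow, h]

/-! ### Normalizers -/

theorem pow_three_cent {g : 𝒢} (hg : g ∈ Subgroup.normalizer (S7 : Set 𝒢)) :
    g ^ 3 ∈ Subgroup.centralizer (S7 : Set 𝒢) := by
  set F := S7.normalizerMonoidHom with hF
  have h5 : Nat.card (Subgroup.normalizer (S7 : Set 𝒢)) =
      Nat.card F.range * Nat.card (Subgroup.centralizer (S7 : Set 𝒢)) := by
    rw [← Subgroup.index_ker, hF, Subgroup.normalizerMonoidHom_ker]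
    have h6 : Nat.card ((Subgroup.centralizer (S7 : Set 𝒢)).subgroupOf
        (Subgroup.normalizer (S7 : Set 𝒢))) = Nat.card (Subgroup.centralizer (S7 : Set 𝒢)) :=
      Nat.card_congr (Subgroup.subgroupOfEquivOfLe (NormC.centralizer_le_normalizer S7)).toEquiv
    rw [← h6]
    exact (Subgroup.index_mul_card _).symm
  rw [card_normalizer_S7, card_C] at h5
  have h3 : Nat.card F.range = 3 := by omega
  set g' : Subgroup.normalizer (S7 : Set 𝒢) := ⟨g, hg⟩ with hg'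
  have h4 : (⟨F g', MonoidHom.mem_range.2 ⟨g', rfl⟩⟩ : F.range) ^ 3 = 1 := by
    rw [← h3]; exact pow_card_eq_one'
  have h6 : F (g' ^ 3) = 1 := by
    rw [map_pow]
    exact congrArg Subtype.val h4
  have h7 : g' ^ 3 ∈ F.ker := h6
  rw [hF, Subgroup.normalizerMonoidHom_ker, Subgroup.mem_subgroupOf] at h7
  exact h7

/-- **the normalizer of `⟨s⟩`** -/
theorem norm_s {g : 𝒢} (hg : g * s * g⁻¹ ∈ S7) : ∃ b ∈ I0, ∃ i j : ℕ, g = e ^ j * (s ^ i * b) := by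
  rw [S7_eq'] at hg
  obtain ⟨k, hk⟩ := (Submonoid.mem_powers_iff _ _).1 (mem_powers_iff_mem_zpowers.2 hg)
  have hn : g ∈ Subgroup.normalizer (S7 : Set 𝒢) := by
    rw [S7_eq']
    exact NormC.mem_normalizer_zpowers (k := k) hk.symm
  have h3 := pow_three_cent hn
  rw [S7_eq', NormC.centralizer_zpowers, Subgroup.mem_centralizer_iff] at h3
  have h4 : g ^ 3 * s * (g ^ 3)⁻¹ = s := by rw [← h3 s rfl]; group
  have h5 : ∀ m : ℕ, g * s ^ m * g⁻¹ = s ^ (k * m) := by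
    intro m
    rw [← conj_pow, ← hk, ← pow_mul]
  have h6 : g ^ 3 * s * (g ^ 3)⁻¹ = s ^ (k * (k * k)) := by
    have e1 : g ^ 3 * s * (g ^ 3)⁻¹ = g * (g * (g * s * g⁻¹) * g⁻¹) * g⁻¹ := by
      rw [show g ^ 3 = g * g * g by rw [pow_succ, pow_two]]; group
    rw [e1, ← hk, h5, h5]
  rw [h4] at h6
  have h7 : (k * (k * k)) % 7 = 1 := by
    have h8 : s ^ (k * (k * k)) = s ^ 1 := by rw [← h6, pow_one]
    have h9 := (pow_inj_mod.1 h8)
    rw [orderOf_s] at h9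
    exact h9
  have h8 : k % 7 = 1 ∨ k % 7 = 2 ∨ k % 7 = 4 := by
    have h9 : (k * (k * k)) % 7 = ((k % 7) * ((k % 7) * (k % 7))) % 7 := by
      rw [Nat.mul_mod, Nat.mul_mod k k]; simp [Nat.mul_mod]
    rw [h9] at h7
    have hlt : k % 7 < 7 := Nat.mod_lt _ (by norm_num)
    generalize k % 7 = m at *
    interval_cases m <;> revert h7 <;> decide
  have h9 : ∃ j : ℕ, (2 ^ j) % 7 = k % 7 := by
    rcases h8 with h | h | h
    · exact ⟨0, by rw [h]; rfl⟩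
    · exact ⟨1, by rw [h]; rfl⟩
    · exact ⟨2, by rw [h]; rfl⟩
  obtain ⟨j, hj⟩ := h9
  have h10 : e ^ j * s * (e ^ j)⁻¹ = g * s * g⁻¹ := by
    have h := e_pow_s j 1
    rw [pow_one, mul_one] at h
    rw [h, ← hk]
    exact s_mod hj
  have h11 : ((e ^ j)⁻¹ * g) * s = s * ((e ^ j)⁻¹ * g) := by
    have h12 : s = (e ^ j)⁻¹ * (g * s * g⁻¹) * e ^ j := by rw [← h10]; group
    conv_rhs => rw [h12]
    group
  obtain ⟨i, b, hb, hx⟩ := cent_s h11
  exact ⟨b, hb, i, j, by rw [← hx]; group⟩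

theorem conj_zpowers {g x y : 𝒢} (h : y * (g * x * g⁻¹) * y⁻¹ ∈ Subgroup.zpowers (g * x * g⁻¹)) :
    (g⁻¹ * y * g) * x * (g⁻¹ * y * g)⁻¹ ∈ Subgroup.zpowers x := by
  obtain ⟨k, hk⟩ := Subgroup.mem_zpowers_iff.1 h
  rw [Subgroup.mem_zpowers_iff]
  refine ⟨k, ?_⟩
  rw [conj_zpow] at hk
  have h2 := congrArg (fun z => g⁻¹ * z * g) hk
  simpa [mul_assoc] using h2

/-- **the normalizer of `⟨f1⟩`** -/
theorem norm_1 {g : 𝒢} (hg : g * f1 * g⁻¹ ∈ Subgroup.zpowers f1) :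
    ∃ b ∈ I1, ∃ i j : ℕ, g = y0 ^ j * (f1 ^ i * b) := by
  have h1 := conj_zpowers (g := g1) (x := s) (y := g) hg
  rw [← S7_eq'] at h1
  obtain ⟨b, hb, i, j, h2⟩ := norm_s h1
  refine ⟨g1 * (c⁻¹ ^ j * b) * g1⁻¹, ?_, i, j, ?_⟩
  · rw [I1_eq]
    exact ⟨c⁻¹ ^ j * b, Subgroup.mul_mem _ (Subgroup.pow_mem _ c_inv_mem j) hb, rfl⟩
  · have h3 : g = g1 * (g1⁻¹ * g * g1) * g1⁻¹ := by group
    have h4 : y0 = g1 * e0 * g1⁻¹ := rfl
    have h5 : e ^ j = e0 ^ j * c⁻¹ ^ j := by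
      rw [e_eq']
      exact (show Commute e0 c⁻¹ from (I0_e0 c_inv_mem).symm).mul_pow j
    have h6 : c⁻¹ ^ j * s ^ i = s ^ i * c⁻¹ ^ j :=
      ((show Commute c⁻¹ s from I0_s c_inv_mem).pow_pow j i).eq
    rw [h3, h2, h4, conj_pow, show f1 = g1 * s * g1⁻¹ from rfl, conj_pow, h5]
    have h7 : e0 ^ j * c⁻¹ ^ j * (s ^ i * b) = e0 ^ j * (s ^ i * (c⁻¹ ^ j * b)) := by
      rw [mul_assoc, ← mul_assoc (c⁻¹ ^ j), h6, mul_assoc]
    rw [h7]
    group

/-- the centralizer of `f2` is `⟨f2⟩ × I2` -/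
noncomputable def I2 : Subgroup 𝒢 := I0.map (MulAut.conj g2).toMonoidHom

theorem card_I2 : Nat.card I2 = 120 := by
  unfold I2
  rw [Subgroup.card_map_of_injective (MulAut.conj g2).injective, card_I0]

/-- **the normalizer of `⟨f2⟩`** -/
theorem norm_2 {g : 𝒢} (hg : g * f2 * g⁻¹ ∈ Subgroup.zpowers f2) :
    ∃ b ∈ I2, ∃ i j : ℕ, g = y0 ^ j * (f2 ^ i * b) := by
  have h1 := conj_zpowers (g := g2) (x := s) (y := g) hg
  rw [← S7_eq'] at h1
  obtain ⟨b, hb, i, j, h2⟩ := norm_s h1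
  refine ⟨g2 * b * g2⁻¹, ⟨b, hb, rfl⟩, i, j, ?_⟩
  have h3 : g = g2 * (g2⁻¹ * g * g2) * g2⁻¹ := by group
  rw [h3, h2, ← g2_e, conj_pow, show f2 = g2 * s * g2⁻¹ from rfl, conj_pow]
  group

theorem I2_comm {x : 𝒢} (hx : x ∈ I2) : x * f2 = f2 * x := by
  obtain ⟨z, hz, rfl⟩ := hx
  show g2 * z * g2⁻¹ * (g2 * s * g2⁻¹) = _
  apply conj_comm_iff.2
  have e1 : g2⁻¹ * (g2 * z * g2⁻¹) * g2 = z := by group
  rw [e1]; exact I0_s hz

theorem I2_of {x : 𝒢} (hx : x * f2 = f2 * x) (h : x ^ 120 = 1) : x ∈ I2 := by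
  refine ⟨g2⁻¹ * x * g2, mem_I0_of (conj_comm_iff.1 hx) ?_, ?_⟩
  · have e1 : (g2⁻¹ * x * g2) ^ 120 = g2⁻¹ * x ^ 120 * g2 := by
      have := conj_pow (a := g2⁻¹) (b := x) (i := 120)
      rwa [inv_inv] at this
    rw [e1, h]; group
  · show g2 * (g2⁻¹ * x * g2) * g2⁻¹ = x
    group

/-- `y0` normalizes `I2` -/
theorem y0_I2 {x : 𝒢} (hx : x ∈ I2) : y0 * x * y0⁻¹ ∈ I2 := by
  obtain ⟨z, hz, rfl⟩ := hx
  refine ⟨e * z * e⁻¹, ?_, ?_⟩
  · have e1 : e * z * e⁻¹ = c⁻¹ * z * c := by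
      rw [e_eq']
      calc e0 * c⁻¹ * z * (e0 * c⁻¹)⁻¹ = e0 * (c⁻¹ * z * c) * e0⁻¹ := by group
        _ = c⁻¹ * z * c := by
          rw [← I0_e0 (Subgroup.mul_mem _ (Subgroup.mul_mem _ c_inv_mem hz) c_mem),
            mul_inv_cancel_right]
    rw [e1]
    exact Subgroup.mul_mem _ (Subgroup.mul_mem _ c_inv_mem hz) c_mem
  · show g2 * (e * z * e⁻¹) * g2⁻¹ = y0 * (g2 * z * g2⁻¹) * y0⁻¹
    rw [← g2_e]; group

end Cfsg.Agent.H868.JM
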